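import Mathlib.AlgebraicGeometry.Morphisms.Finite
import Mathlib.RingTheory.IntegralClosure.GoingDown
import Groth.Agent.NormalSec.Basic

/-!
Going down for an integral surjective morphism from an integral scheme onto an integral scheme
with normal local rings: generalizations lift.
-/

set_option linter.style.haveILetI false

universe u

open CategoryTheory AlgebraicGeometry

namespace Groth.Agent.NormGen.Basic

variable {X Y : Scheme.{u}} (f : X ⟶ Y)

theorem isIntegrallyClosed_sections [IsIntegral Y]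
    (hY : ∀ y : Y, IsIntegrallyClosed (Y.presheaf.stalk y)) (U : Y.Opens) [Nonempty U] :
    IsIntegrallyClosed Γ(Y, U) :=
  Groth.Agent.NormalSec.isIntegrallyClosed_sections U (fun _ _ => inferInstance) (fun y _ => hY y)
    fun b hb y hy h => hb (germ_injective_of_isIntegral Y y hy (h.trans (map_zero _).symm))

theorem app_injective [IsIntegral Y] [Surjective f] (U : Y.Opens) :
    Function.Injective (f.app U).hom := by
  rw [injective_iff_map_eq_zero]
  intro a ha
  rw [← AlgebraicGeometry.basicOpen_eq_bot_iff]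
  refine TopologicalSpace.Opens.ext (Set.eq_empty_iff_forall_notMem.mpr fun y hy => ?_)
  obtain ⟨x, rfl⟩ := f.surjective y
  have h : x ∈ f ⁻¹ᵁ (Y.basicOpen a) := hy
  rw [Scheme.preimage_basicOpen, ha, Scheme.basicOpen_zero] at h
  exact h

theorem generalizingMap [IsIntegral X] [IsIntegral Y] [IsIntegralHom f] [Surjective f]
    (hY : ∀ y : Y, IsIntegrallyClosed (Y.presheaf.stalk y)) : GeneralizingMap f := by
  intro x y' hy'
  obtain ⟨_, ⟨U, hU, rfl⟩, hxU, -⟩ :=
    Y.isBasis_affineOpens.exists_subset_of_mem_open (Set.mem_univ (f x)) isOpen_univ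
  replace hU : IsAffineOpen U := hU
  have hy'U : y' ∈ U := hy'.mem_open U.isOpen hxU
  haveI : Nonempty U := ⟨⟨_, hxU⟩⟩
  haveI : Nonempty (f ⁻¹ᵁ U : X.Opens) := ⟨⟨x, hxU⟩⟩
  haveI : IsIntegrallyClosed Γ(Y, U) := isIntegrallyClosed_sections hY U
  have hV : IsAffineOpen (f ⁻¹ᵁ U) := hU.preimage f
  algebraize [(f.app U).hom]
  haveI : FaithfulSMul Γ(Y, U) Γ(X, f ⁻¹ᵁ U) :=
    (faithfulSMul_iff_algebraMap_injective _ _).mpr (app_injective f U)
  haveI : Algebra.IsIntegral Γ(Y, U) Γ(X, f ⁻¹ᵁ U) := ⟨f.isIntegral_app U hU⟩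
  let P : Spec Γ(X, f ⁻¹ᵁ U) := hV.primeIdealOf ⟨x, hxU⟩
  have hsq : ∀ Q, f (hV.fromSpec Q) = hU.fromSpec (Spec.map (f.app U) Q) := fun Q => by
    rw [← Scheme.Hom.comp_apply, Scheme.Hom.app_eq_appLE]
    change _ = (Spec.map (f.appLE U (f ⁻¹ᵁ U) le_rfl) ≫ hU.fromSpec) Q
    rw [IsAffineOpen.SpecMap_appLE_fromSpec f hU hV]
  have hP : hU.fromSpec (Spec.map (f.app U) P) = f x := by
    rw [← hsq]
    exact congrArg f (hV.fromSpec_primeIdealOf ⟨x, hxU⟩)
  obtain ⟨p', hp'⟩ : y' ∈ Set.range hU.fromSpec := by rw [hU.range_fromSpec]; exact hy'U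
  have hle : p' ⤳ Spec.map (f.app U) P := by
    rw [← hU.fromSpec.isOpenEmbedding.isInducing.specializes_iff, hp', hP]
    exact hy'
  have hle' : p'.asIdeal ≤ (Spec.map (f.app U) P).asIdeal :=
    (PrimeSpectrum.le_iff_specializes p' (Spec.map (f.app U) P)).mpr hle
  haveI : P.asIdeal.LiesOver (Spec.map (f.app U) P).asIdeal := ⟨rfl⟩
  haveI : p'.asIdeal.IsPrime := PrimeSpectrum.isPrime p'
  haveI : (Spec.map (f.app U) P).asIdeal.IsPrime := PrimeSpectrum.isPrime _
  haveI : P.asIdeal.IsPrime := PrimeSpectrum.isPrime _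
  obtain ⟨Q, hQ, hQp, hQo⟩ := Ideal.exists_ideal_le_liesOver_of_le (p := p'.asIdeal)
    (q := (Spec.map (f.app U) P).asIdeal) P.asIdeal hle'
  let Q' : Spec Γ(X, f ⁻¹ᵁ U) := ⟨Q, hQp⟩
  refine ⟨hV.fromSpec Q', ?_, ?_⟩
  · have h : Q' ⤳ P := (PrimeSpectrum.le_iff_specializes Q' P).mp hQ
    have h2 := h.map hV.fromSpec.continuous
    rwa [show hV.fromSpec P = x from hV.fromSpec_primeIdealOf ⟨x, hxU⟩] at h2
  · rw [hsq Q', ← hp']
    congr 1
    exact PrimeSpectrum.ext hQo.over.symm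

end Groth.Agent.NormGen.Basic
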